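import Cfsg.Agent.Lib.Multiplier.PrimeTailsLeech

/-! Generated certificate data: the 5-part of the multiplier of Co3. -/

set_option autoImplicit false
set_option maxRecDepth 40000

namespace Cfsg.Agent.MultiplierCoThree.Part5

open Cfsg.Agent.Multiplier

/-- Relations. -/
def rels : List PrimeTails.Rel :=
  [.cons [2] 0 0,
   .fus [[0, 0]] [[0, 0, 0, 2]] [0, 0, 0, 0, 0] [],
   .fus [[0, 0, 0, 0],
    [0, 1]] [[0, 1, 2, 2],
    [0, 0, 0, 0, 1, 1, 2, 2, 2]] [0, 1] [1, 0],
   .fus [[2]] [[0, 0, 0, 1]] [0, 0, 0, 0, 0] [],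
   .fus [[0, 0, 0, 0, 1, 1, 2],
    [0, 0, 1, 2, 2, 2]] [[0, 0, 0, 1, 1, 1, 1, 2, 2, 2],
    [0, 0, 0, 0, 2, 2, 2, 2]] [0, 1] [1, 0]]

/-- Vectors of the relations. -/
def rv : List ((ℕ × ℕ) × (ℕ × ℕ)) :=
  [((0x500000200000a000001, 18), (0x1, 1)),
   ((0x2, 2), (0x100003c00001e00000c000019000003, 131)),
   ((0x1000009000003000001000002000002, 18), (0x100000c00000800000300000c000002, 38)),
   ((0x1000000000000000000000000000000, 1), (0x100001e000003, 34)),
   ((0x100003500000e00000600000a000002, 86), (0x100003600001800000a000011000002, 108))]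

/-- Combinations. -/
def combs : List (List (ℕ × ℕ) × List (ℕ × ℕ)) :=
  [([(0, 4), (1, 1), (3, 1)], []),
   ([(2, 1), (4, 2)], []),
   ([(0, 3)], []),
   ([], [(0, 1)]),
   ([(0, 3), (2, 3)], []),
   ([(1, 3), (3, 4)], [])]

/-- The certificate. -/
def cert : PrimeTails.Cert where
  p := 5
  n := 3
  rules := [[],
    [0, 1],
    [],
    [0, 1, 1, 2],
    [1, 2],
    []]
  rels := rels
  rv := rv
  piv := [(2, 0)]
  minv := [[0],
    [2],
    [0]]
  combs := combs
  fuel := 612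

/-- The generators. -/
def outs : List ℕ := [74, 75, 76]

/-- The conjugating elements. -/
def xs : List ℕ := [0, 77, 77, 78, 78]

/-- Separating points. -/
def wit : List (ℕ × List ℕ) := [(1, [1, 174, 245, 270, 388]), (1, [1]), (0, [0])]

end Cfsg.Agent.MultiplierCoThree.Part5
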