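import Cfsg.Agent.Lib.MultiplierCoThree.Model
import Cfsg.Agent.Lib.MultiplierCoThree.Part2
import Cfsg.Agent.Lib.MultiplierCoThree.Part3
import Cfsg.Agent.Lib.MultiplierCoThree.Part5
import Cfsg.Agent.Lib.OutCert.Gen
import Cfsg.Agent.Lib.Multiplier.Basic

/-!
# The Schur multiplier of `co3Group` has no prime part

* `not_stem`: no stem extension of `co3Group` with kernel of prime order
-/

set_option autoImplicit false
set_option maxRecDepth 100000
set_option linter.style.haveILetI false

namespace Cfsg.Agent.MultiplierCoThree

open Leech OutCert Cfsg.Agent.Multiplier Cfsg.Agent.Multiplier.PrimeTails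

theorem latOk : model.latOk = true := by decide +kernel
theorem nodesOk : model.nodesOk = true := by decide +kernel
theorem frameOk : model.frameOk = true := by decide +kernel
theorem genOk0 : model.genOk 0 (actP dX) = true := by decide +kernel
theorem genOk1 : model.genOk 1 (actP dY) = true := by decide +kernel
theorem genOk2 : model.genOk 2 (actP dZ) = true := by decide +kernel
theorem genOk3 : model.genOk 3 (actM t3Rows) = true := by decide +kernel

/-- The generators. -/
noncomputable def gens : List co3Group :=
  [⟨pX, xyz_le_co3 pX_mem⟩, ⟨pY, xyz_le_co3 pY_mem⟩, ⟨pZ, xyz_le_co3 pZ_mem⟩, ⟨invA, invA_mem_co3⟩]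

theorem sound : model.Sound fun k => (slpEl gens model.nodes).getD k 1 := by
  refine Model.sound_of_checks gens latOk rfl (fun k hk => ?_) nodesOk
  have hk' : k < 4 := hk
  interval_cases k
  · exact ⟨_, genOk0, fun v x h => h.pX⟩
  · exact ⟨_, genOk1, fun v x h => h.pY⟩
  · exact ⟨_, genOk2, fun v x h => h.pZ⟩
  · exact ⟨_, genOk3, fun v x h => h.invA⟩

theorem checked2 : Part2.cert.Checked :=
  Cert.checked_of _ (by decide +kernel) (by decide +kernel) (by decide +kernel) (by decide +kernel)
    (by decide +kernel)

theorem checked3 : Part3.cert.Checked :=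
  Cert.checked_of _ (by decide +kernel) (by decide +kernel) (by decide +kernel) (by decide +kernel)
    (by decide +kernel)

theorem checked5 : Part5.cert.Checked :=
  Cert.checked_of _ (by decide +kernel) (by decide +kernel) (by decide +kernel) (by decide +kernel)
    (by decide +kernel)

theorem outs2 : model.outsOk Part2.outs = true := by decide +kernel
theorem outs3 : model.outsOk Part3.outs = true := by decide +kernel
theorem outs5 : model.outsOk Part5.outs = true := by decide +kernel
theorem rules2 : model.rulesOk Part2.cert Part2.outs = true := by decide +kernel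
theorem rules3 : model.rulesOk Part3.cert Part3.outs = true := by decide +kernel
theorem rules5 : model.rulesOk Part5.cert Part5.outs = true := by decide +kernel
theorem fus2 : model.fusOk Part2.cert Part2.outs Part2.xs = true := by decide +kernel
theorem fus3 : model.fusOk Part3.cert Part3.outs Part3.xs = true := by decide +kernel
theorem fus5 : model.fusOk Part5.cert Part5.outs Part5.xs = true := by decide +kernel
theorem wit2 : model.witOk Part2.cert Part2.outs Part2.wit = true := by decide +kernel
theorem wit3 : model.witOk Part3.cert Part3.outs Part3.wit = true := by decide +kernel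
theorem wit5 : model.witOk Part5.cert Part5.outs Part5.wit = true := by decide +kernel

universe u

/-- No stem extension with kernel of prime order. -/
theorem not_stem {Γ : Type u} [Group Γ] [Finite Γ] (σ : Γ →* co3Group) (hσ : Cfsg.IsStemExtension σ)
    (p : ℕ) (hp : p.Prime) : Nat.card σ.ker ≠ p := by
  haveI : Finite co3Group := Nat.finite_of_card_ne_zero (by rw [natCard_co3Group]; norm_num)
  have hc : Nat.card co3Group = 2 ^ 10 * (3 ^ 7 * (5 ^ 3 * (7 * (11 * 23)))) := by
    rw [natCard_co3Group]; norm_num
  by_cases h2 : p = 2
  · subst h2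
    exact Model.not_stem sound frameOk Part2.cert Part2.outs Part2.xs Part2.wit hp checked2 outs2 rules2
      fus2 wit2 (by rw [natCard_co3Group]; decide +kernel) hσ
  by_cases h3 : p = 3
  · subst h3
    exact Model.not_stem sound frameOk Part3.cert Part3.outs Part3.xs Part3.wit hp checked3 outs3 rules3
      fus3 wit3 (by rw [natCard_co3Group]; decide +kernel) hσ
  by_cases h5 : p = 5
  · subst h5
    exact Model.not_stem sound frameOk Part5.cert Part5.outs Part5.xs Part5.wit hp checked5 outs5 rules5
      fus5 wit5 (by rw [natCard_co3Group]; decide +kernel) hσ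
  refine Multiplier.not_stem_of_not_sq_dvd hσ hp ?_
  intro hd
  rw [hc] at hd
  have hpd : ∀ q k, q.Prime → p ≠ q → Nat.Coprime (p ^ 2) (q ^ k) := fun q k hq hne =>
    ((Nat.coprime_primes hp hq).2 hne).pow 2 k
  have h1 := (hpd 2 10 Nat.prime_two h2).dvd_of_dvd_mul_left hd
  have h4 := (hpd 3 7 Nat.prime_three h3).dvd_of_dvd_mul_left h1
  have h6 := (hpd 5 3 (by norm_num) h5).dvd_of_dvd_mul_left h4
  have h7 : p ∣ 7 * (11 * 23) := (dvd_pow_self p two_ne_zero).trans h6
  rcases hp.dvd_mul.1 h7 with h | h
  · rw [(Nat.prime_dvd_prime_iff_eq hp (by norm_num)).1 h] at h6; norm_num at h6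
  rcases hp.dvd_mul.1 h with h | h <;>
    (rw [(Nat.prime_dvd_prime_iff_eq hp (by norm_num)).1 h] at h6; norm_num at h6)

end Cfsg.Agent.MultiplierCoThree
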